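import Cfsg.Agent.KFacts.TwF4.AutNorm

/-!
# Automorphisms of `²F₄(q)` normalising the Borel subgroup fix its double cosets (helper461)

`U = J 1 8` over `S : Full σ G`:
* `aut_dcoset` : an automorphism `α` with `α(U) = U` satisfies `α t ∈ N(U) t N(U)` for all `t`;
* `not_dvd_normalizer` : an odd prime which does not divide `q - 1` does not divide `|N(U)|`.
-/

set_option autoImplicit false
set_option linter.unusedSectionVars false

namespace Cfsg.Agent.H461.D

open Subgroup Cfsg.Agent.KFacts.TwF4 Cfsg.Agent.SplitTwo Cfsg.Agent.TitsThree.RankTwoZ Cfsg.Agent.SplitTwo.ZS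

universe u

variable {F : Type*} [Field F] {σ : F →+* F} {G : Type u} [Group G] (S : Full σ G)

theorem T_mem_normalizer {t : G} (ht : t ∈ S.T) : t ∈ normalizer ((J S.XZ 1 8 : Subgroup G) : Set G) := by
  rw [mem_normalizer_iff]
  intro x
  refine ⟨fun h => S.T_conj_J ht h, fun h => ?_⟩
  have h5 := S.T_conj_J (inv_mem ht) h
  have e : t⁻¹ * (t * x * t⁻¹) * t⁻¹⁻¹ = x := by group
  rwa [e] at h5

/-- an injective endomorphism of a finite group mapping a subgroup into itself maps it onto itself -/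
theorem mem_iff_of_le {G : Type*} [Group G] [Finite G] (β : MulAut G) {X : Subgroup G} (h : ∀ x ∈ X, β x ∈ X) (x : G) :
    β x ∈ X ↔ x ∈ X := by
  refine ⟨fun hx => ?_, h x⟩
  have h1 : X.map β.toMonoidHom = X := by
    apply Subgroup.eq_of_le_of_card_ge
    · rintro _ ⟨y, hy, rfl⟩
      exact h y hy
    · rw [Nat.card_congr (X.equivMapOfInjective β.toMonoidHom β.injective).toEquiv]
  rw [← h1] at hx
  obtain ⟨y, hy, hyx⟩ := hx
  have : y = x := β.injective hyx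
  rwa [← this]

variable [Finite F] [Finite G]

/-- **an automorphism normalising `U` fixes the double cosets of `N(U)`** -/
theorem aut_dcoset (hF : ∃ c : Fˣ, c ≠ 1) (hR : S.R.p = 2) (α : MulAut G)
    (hα : ∀ x, α x ∈ J S.XZ 1 8 ↔ x ∈ J S.XZ 1 8) (t : G) :
    ∃ b ∈ normalizer ((J S.XZ 1 8 : Subgroup G) : Set G), ∃ b' ∈ normalizer ((J S.XZ 1 8 : Subgroup G) : Set G),
      α t = b * t * b' := by
  obtain ⟨k, τ, ho, he⟩ := AutNorm.aut_form S hF hR α
  let β : MulAut G := MulAut.conj k⁻¹ * α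
  have hβ : ∀ x, β x = k⁻¹ * α x * k := fun x => by
    show k⁻¹ * α x * k⁻¹⁻¹ = _
    rw [inv_inv]
  have hαβ : ∀ x, α x = k * β x * k⁻¹ := fun x => by rw [hβ]; group
  have hβo : ∀ a t, β (S.o a t) = S.o a (τ t) := fun a t => by rw [hβ, ho]; group
  have hβe : ∀ a p u, β (S.e a p u) = S.e a (τ p) (τ u) := fun a p u => by rw [hβ, he]; group
  have hX : ∀ j x, β x ∈ S.R.X j ↔ x ∈ S.R.X j := by
    intro j x
    refine mem_iff_of_le β (fun x hx => ?_) x
    rcases od_or_ev j with ⟨a, rfl⟩ | ⟨a, rfl⟩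
    · obtain ⟨t, rfl⟩ := (S.mem_odd a x).1 hx
      rw [hβo]
      exact (S.mem_odd a _).2 ⟨_, rfl⟩
    · obtain ⟨p, u, rfl⟩ := (S.mem_even a x).1 hx
      rw [hβe]
      exact (S.mem_even a _).2 ⟨_, _, rfl⟩
  have hU : ∀ x, β x ∈ J S.XZ 1 8 ↔ x ∈ J S.XZ 1 8 := by
    intro x
    refine mem_iff_of_le β (fun x hx => ?_) x
    have h1 : J S.XZ 1 8 ≤ (J S.XZ 1 8).comap β.toMonoidHom :=
      J_le fun j h1 h2 y hy => mem_J (X := S.XZ) (k := j) ((hX _ y).2 hy) h1 h2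
    exact h1 hx
  -- `k` normalises `U`
  have hk : k ∈ normalizer ((J S.XZ 1 8 : Subgroup G) : Set G) := by
    rw [mem_normalizer_iff]
    intro y
    obtain ⟨x, rfl⟩ := β.surjective y
    rw [← hαβ]
    exact (hU x).trans (hα x).symm
  obtain ⟨b, hb, s, hs, w, ⟨c, hw⟩, b', hb', rfl⟩ := S.bruhat t
  have hle : ∀ {x : G}, x ∈ J S.XZ 1 8 → x ∈ normalizer ((J S.XZ 1 8 : Subgroup G) : Set G) := fun h => le_normalizer h
  -- `β s` normalises `U`
  have hn : ∀ {x : G}, x ∈ normalizer ((J S.XZ 1 8 : Subgroup G) : Set G) →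
      β x ∈ normalizer ((J S.XZ 1 8 : Subgroup G) : Set G) := by
    intro x hx
    rw [mem_normalizer_iff] at hx ⊢
    intro y
    obtain ⟨z, rfl⟩ := β.surjective y
    rw [← map_inv, ← map_mul, ← map_mul]
    exact (hU z).trans ((hx z).trans (hU _).symm)
  -- `β w w⁻¹` is in the torus
  have key : ∀ f : ZMod (2 * 8) → ZMod (2 * 8), Function.Surjective f → Maps S.R.X w f → β w * w⁻¹ ∈ S.T := by
    intro f hf hw
    show Maps S.R.X (β w * w⁻¹) id
    intro j x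
    obtain ⟨i, rfl⟩ := hf j
    have h1 : Maps S.R.X (β w) f := by
      intro l y
      obtain ⟨z, rfl⟩ := β.surjective y
      rw [← map_inv, ← map_mul, ← map_mul, hX, hw, hX]
    have h2 := h1 i (w⁻¹ * x * w)
    have h3 := hw i (w⁻¹ * x * w)
    have e1 : β w * (w⁻¹ * x * w) * (β w)⁻¹ = β w * w⁻¹ * x * (β w * w⁻¹)⁻¹ := by group
    have e2 : w * (w⁻¹ * x * w) * w⁻¹ = x := by group
    rw [e1] at h2
    rw [e2] at h3
    exact h2.trans h3.symm
  have hwT : β w * w⁻¹ ∈ S.T := by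
    rcases hw with hw | hw
    · exact key _ (fun j => ⟨j - c, by ring⟩) hw
    · exact key _ (fun j => ⟨c - j, by ring⟩) hw
  refine ⟨k * (β b * (β s * (β w * w⁻¹))) * (b * s)⁻¹, ?_, b'⁻¹ * β b' * k⁻¹, ?_, ?_⟩
  · refine mul_mem (mul_mem hk (mul_mem (hn (hle hb)) (mul_mem (hn (T_mem_normalizer S hs)) (T_mem_normalizer S hwT))))
      (inv_mem (mul_mem (hle hb) (T_mem_normalizer S hs)))
  · exact mul_mem (mul_mem (inv_mem (hle hb')) (hn (hle hb'))) (inv_mem hk)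
  · rw [hαβ, map_mul, map_mul, map_mul]
    group

/-- **the order of the Borel subgroup** -/
theorem not_dvd_normalizer (hF : ∃ c : Fˣ, c ≠ 1) (hR : S.R.p = 2) {p : ℕ} (hp : p.Prime) (hp2 : p ≠ 2)
    (hq : ¬ p ∣ Nat.card F - 1) : ¬ p ∣ Nat.card (normalizer ((J S.XZ 1 8 : Subgroup G) : Set G)) := by
  have : Fact p.Prime := ⟨hp⟩
  intro hd
  obtain ⟨⟨x, hx⟩, ho⟩ := exists_prime_orderOf_dvd_card' (G := normalizer ((J S.XZ 1 8 : Subgroup G) : Set G)) p hd
  have hxo : orderOf x = p := by rw [← ho]; exact (Subgroup.orderOf_mk x hx).symm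
  obtain ⟨b, hb, t, ht, rfl⟩ := SylU.norm_U S hF hR (mem_normalizer_iff.1 hx)
  -- the `(q - 1)`-th power is in `U`
  obtain ⟨c, d, rfl⟩ := S.mem_T.1 ht
  have hpow : ∀ n : ℕ, S.h c d ^ n = S.h (c ^ n) (d ^ n) := by
    intro n
    induction n with
    | zero => simp [S.h_one]
    | succ n ih => rw [pow_succ, ih, S.h_mul, ← pow_succ, ← pow_succ]
  have hcd : ∀ c : Fˣ, c ^ (Nat.card F - 1) = 1 := by
    intro c
    rw [← Nat.card_units]
    exact pow_card_eq_one'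
  have h1 : (b * S.h c d) ^ (Nat.card F - 1) ∈ J S.XZ 1 8 := by
    have key : ∀ n : ℕ, ∃ u ∈ J S.XZ 1 8, (b * S.h c d) ^ n = u * S.h c d ^ n := by
      intro n
      induction n with
      | zero => exact ⟨1, one_mem _, by simp⟩
      | succ n ih =>
        obtain ⟨u, hu, h⟩ := ih
        refine ⟨u * (S.h c d ^ n * b * (S.h c d ^ n)⁻¹), mul_mem hu (S.T_conj_J (pow_mem ht n) hb), ?_⟩
        rw [pow_succ, h, pow_succ]
        group
    obtain ⟨u, hu, h⟩ := key (Nat.card F - 1)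
    rw [h, hpow, hcd, hcd, S.h_one, mul_one]
    exact hu
  have h2 : IsPGroup 2 (J S.XZ 1 8) := Arc.isPGroup_J S.zsys8 (Inv.two_X S hR) 8 1 8 (by norm_num) (by norm_num)
  obtain ⟨n, hn⟩ := h2 ⟨_, h1⟩
  have h3 : ((b * S.h c d) ^ (Nat.card F - 1)) ^ 2 ^ n = 1 := congrArg Subtype.val hn
  rw [← pow_mul] at h3
  have h4 := orderOf_dvd_of_pow_eq_one h3
  rw [hxo] at h4
  rcases (hp.dvd_mul).1 h4 with h5 | h5
  · exact hq h5
  · exact hp2 ((Nat.prime_dvd_prime_iff_eq hp Nat.prime_two).1 (hp.dvd_of_dvd_pow h5))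

end Cfsg.Agent.H461.D
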