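import Cfsg.Agent.H461.D.Main

/-!
# A normal subgroup of index 5 (helper461)

`index_five` : `T` is normal in `G` with trivial centralizer and cyclic outer automorphism group, all elements of order 11 of
`G` are conjugate and `x ∈ T` of order 11 is not conjugate to `x ^ 3` in `T`: a normal subgroup of index 5 of `G` contains
`T` and the centralizer of any Sylow 11-subgroup (any subset) containing `x`.
-/

set_option autoImplicit false

universe u v

namespace Cfsg.Agent.H461.D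

open Subgroup Cfsg Cfsg.Lie

variable {G : Type u} [Group G]

/-- `G / T` is cyclic -/
theorem isCyclic_quotient {T : Subgroup G} [T.Normal] (hC : centralizer (T : Set G) = ⊥) (h : H523.CycOut ↥T) :
    IsCyclic (G ⧸ T) := by
  have hn := H523.conj_range_normal ↥T
  obtain ⟨β, h⟩ := h
  have hc : IsCyclic (MulAut T ⧸ (MulAut.conj : T →* MulAut T).range) := by
    refine ⟨⟨(β : MulAut T ⧸ (MulAut.conj : T →* MulAut T).range), fun x => ?_⟩⟩
    induction x using QuotientGroup.induction_on with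
    | _ α =>
    obtain ⟨g, k, rfl⟩ := h α
    refine ⟨k, ?_⟩
    have h1 : ((MulAut.conj g : MulAut T) : MulAut T ⧸ (MulAut.conj : T →* MulAut T).range) = 1 :=
      (QuotientGroup.eq_one_iff _).mpr ⟨g, rfl⟩
    change (β : MulAut T ⧸ (MulAut.conj : T →* MulAut T).range) ^ k = _
    rw [QuotientGroup.mk_mul, h1, one_mul, QuotientGroup.mk_zpow]
  let f : G →* MulAut T ⧸ (MulAut.conj : T →* MulAut T).range :=
    (QuotientGroup.mk' (MulAut.conj : T →* MulAut T).range).comp MulAut.conjNormal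
  have hf : ∀ g : G, f g = 1 ↔ g ∈ T := by
    intro g
    constructor
    · intro hg
      obtain ⟨t, ht⟩ := (QuotientGroup.eq_one_iff _).1 hg
      have h2 : (t : G)⁻¹ * g ∈ centralizer (T : Set G) := by
        rw [mem_centralizer_iff]
        intro s hs
        have h3 := congrArg (fun e : MulAut T => ((e ⟨s, hs⟩ : T) : G)) ht
        simp only [MulAut.conj_apply, MulAut.conjNormal_apply, Subgroup.coe_mul, InvMemClass.coe_inv] at h3
        calc s * ((t : G)⁻¹ * g) = (t : G)⁻¹ * (t * s * (t : G)⁻¹) * g := by group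
          _ = (t : G)⁻¹ * (g * s * g⁻¹) * g := by rw [h3]
          _ = (t : G)⁻¹ * g * s := by group
      rw [hC, mem_bot] at h2
      rw [← inv_mul_eq_one.1 h2]
      exact t.2
    · intro hg
      refine (QuotientGroup.eq_one_iff _).2 ⟨⟨g, hg⟩, ?_⟩
      ext s
      rw [MulAut.conj_apply, MulAut.conjNormal_apply]
      rfl
  refine isCyclic_of_injective (QuotientGroup.lift T f fun t ht => (hf t).2 ht) ?_
  rw [injective_iff_map_eq_one]
  intro x hx
  induction x using QuotientGroup.induction_on with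
  | _ g =>
  exact (QuotientGroup.eq_one_iff g).2 ((hf g).1 hx)

/-- **the index** -/
theorem five_dvd_index [Finite G] {M T : Subgroup G} [M.Normal] {x : G} (hx : orderOf x = 11)
    (hconj : ∀ y : G, orderOf y = 11 → IsConj x y) (hcube : ∀ t ∈ T, t * x * t⁻¹ ≠ x ^ 3)
    (hM : ∀ m ∈ M, ∃ t ∈ T, ∃ c, c * x = x * c ∧ m = t * c) : 5 ∣ M.index := by
  by_contra h5
  have h11 : x ^ 11 = 1 := by rw [← hx]; exact pow_orderOf_eq_one x
  obtain ⟨g, hg⟩ := isConj_iff.1 (hconj (x ^ 3) (by rw [orderOf_pow, hx]; norm_num))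
  have hpow : ∀ n : ℕ, g ^ n * x * (g ^ n)⁻¹ = x ^ 3 ^ n := by
    intro n
    induction n with
    | zero => simp
    | succ n ih =>
      calc g ^ (n + 1) * x * (g ^ (n + 1))⁻¹ = g ^ n * (g * x * g⁻¹) * (g ^ n)⁻¹ := by rw [pow_succ]; group
        _ = (g ^ n * x * (g ^ n)⁻¹) ^ 3 := by rw [hg, conj_pow]
        _ = x ^ 3 ^ (n + 1) := by rw [ih, ← pow_mul, pow_succ]
  -- `n k ≡ 1 (mod 5)`
  obtain ⟨k, hk⟩ : ∃ k, M.index * k % 5 = 1 := by
    have h1 : M.index % 5 < 5 := Nat.mod_lt _ (by norm_num)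
    have h2 : M.index % 5 ≠ 0 := fun h => h5 (Nat.dvd_of_mod_eq_zero h)
    generalize hr : M.index % 5 = r at h1 h2
    have h3 : ∀ k, M.index * k % 5 = r * k % 5 := fun k => by
      rw [← hr, Nat.mod_mul_mod]
    interval_cases r
    · exact absurd rfl h2
    · exact ⟨1, by rw [h3]⟩
    · exact ⟨3, by rw [h3]⟩
    · exact ⟨2, by rw [h3]⟩
    · exact ⟨4, by rw [h3]⟩
  have hmem : g ^ (M.index * k) ∈ M := by
    rw [pow_mul]
    exact pow_mem (M.pow_index_mem g) k
  obtain ⟨t, ht, c, hc, hm⟩ := hM _ hmem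
  apply hcube t ht
  have h6 : t * x * t⁻¹ = g ^ (M.index * k) * x * (g ^ (M.index * k))⁻¹ := by
    rw [hm]
    calc t * x * t⁻¹ = t * (x * c) * c⁻¹ * t⁻¹ := by group
      _ = t * (c * x) * c⁻¹ * t⁻¹ := by rw [hc]
      _ = t * c * x * (t * c)⁻¹ := by group
  rw [h6, hpow, pow_eq_pow_iff_modEq, hx]
  obtain ⟨j, hj⟩ : ∃ j, M.index * k = 5 * j + 1 := ⟨M.index * k / 5, by omega⟩
  rw [hj, pow_succ, pow_mul]
  have h7 : (3 ^ 5) ^ j ≡ 1 ^ j [MOD 11] := Nat.ModEq.pow j (by decide)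
  rw [one_pow] at h7
  have h8 := h7.mul_right 3
  rwa [one_mul] at h8

/-- **a normal subgroup of index 5** -/
theorem index_five [Finite G] (T : Subgroup G) [T.Normal] (hC : centralizer (T : Set G) = ⊥) {F : Type} [Field F]
    [Fintype F] {m : ℕ} (hm : 1 ≤ m) (hF : Fintype.card F = 2 ^ (2 * m + 1)) (iso : ↥T ≃* ↥(Lie.twistedF4 F (2 ^ m)))
    {x : G} (hx : orderOf x = 11) (hconj : ∀ y : G, orderOf y = 11 → IsConj x y)
    (hcube : ∀ t ∈ T, t * x * t⁻¹ ≠ x ^ 3) (P : Subgroup G) (hxP : x ∈ P) :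
    ∃ N : Subgroup G, N.Normal ∧ T ≤ N ∧ centralizer (P : Set G) ≤ N ∧ N.index = 5 := by
  have hcyc : IsCyclic (G ⧸ T) :=
    isCyclic_quotient hC (H523.cycOut_twF4 ⟨F, inferInstance, inferInstance, m, hm, hF, ⟨iso⟩⟩)
  -- `G / T` is abelian
  have hab : ∀ a b : G, a * b * a⁻¹ * b⁻¹ ∈ T := by
    intro a b
    let _ := IsCyclic.commGroup (α := G ⧸ T)
    rw [← QuotientGroup.eq_one_iff]
    have h1 : ((a * b * a⁻¹ * b⁻¹ : G) : G ⧸ T) = (a : G ⧸ T) * b * (a : G ⧸ T)⁻¹ * (b : G ⧸ T)⁻¹ := rfl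
    rw [h1, mul_comm (a : G ⧸ T) b]
    group
  set M : Subgroup G := T ⊔ centralizer (P : Set G) with hMdef
  have hMn : M.Normal := by
    refine ⟨fun n hn g => ?_⟩
    have h1 : g * n * g⁻¹ = (g * n * g⁻¹ * n⁻¹) * n := by group
    rw [h1]
    exact mul_mem (mem_sup_left (hab g n)) hn
  have h5 : 5 ∣ M.index := by
    refine five_dvd_index (T := T) hx hconj hcube fun y hy => ?_
    obtain ⟨t, ht, c, hc, rfl⟩ := Subgroup.mem_sup_of_normal_left.1 hy
    exact ⟨t, ht, c, (mem_centralizer_iff.1 hc x hxP).symm, rfl⟩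
  -- the subgroup of index 5 of the cyclic group `G / M`
  have hcM : IsCyclic (G ⧸ M) := by
    refine isCyclic_of_surjective (QuotientGroup.map T M (MonoidHom.id G) (by rw [comap_id]; exact le_sup_left)) ?_
    intro y
    induction y using QuotientGroup.induction_on with
    | _ g => exact ⟨(g : G ⧸ T), rfl⟩
  let _ := IsCyclic.commGroup (α := G ⧸ M)
  refine ⟨((powMonoidHom 5 : (G ⧸ M) →* (G ⧸ M)).range).comap (QuotientGroup.mk' M), inferInstance, ?_, ?_, ?_⟩
  · intro t ht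
    have h1 : (QuotientGroup.mk' M) t = 1 := (QuotientGroup.eq_one_iff t).2 (mem_sup_left ht)
    rw [mem_comap, h1]
    exact one_mem _
  · intro t ht
    have h1 : (QuotientGroup.mk' M) t = 1 := (QuotientGroup.eq_one_iff t).2 (mem_sup_right ht)
    rw [mem_comap, h1]
    exact one_mem _
  · rw [Subgroup.index_comap_of_surjective _ (QuotientGroup.mk'_surjective M), IsCyclic.index_powMonoidHom_range]
    rw [← Subgroup.index_eq_card]
    exact Nat.gcd_eq_right h5

end Cfsg.Agent.H461.D
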