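import Cfsg.Agent.H461.D.Borel
import Cfsg.Agent.KFacts.TwF4.Full
import Cfsg.Agent.H523.FpfCycFam

/-!
# The group half of the case `²F₄(q)`, `11 ∣ q + 1`, of S4880 (helper461)

* `group_part` : `T = ²F₄(q)` normal in `G` with trivial centralizer, `11 ∤ |G : T|`: a subgroup `H` of order prime to 11 with
  `G = T H` which fixes the double cosets of `H ∩ T` in `T` (`H = N_G(U)`);
* `index_five` : if all elements of order 11 of `G` are conjugate and `x ∈ T` is not conjugate to `x ^ 3` in `T`, then a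
  normal subgroup of index 5 contains `T` and the centralizer of a Sylow 11-subgroup containing `x`.
-/

set_option autoImplicit false

universe u v

namespace Cfsg.Agent.H461.D

open Subgroup Cfsg Cfsg.Lie Cfsg.Agent.KFacts.TwF4 Cfsg.Agent.SplitTwo Cfsg.Agent.SplitTwo.ZS
open scoped Pointwise

section Abs

variable {G : Type u} [Group G] [Finite G]

/-- conjugation by `g` on `T`, transported -/
def act {T : Subgroup G} [T.Normal] {L : Type v} [Group L] (e : ↥T ≃* L) (g : G) : MulAut L :=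
  (e.symm.trans (MulAut.conjNormal g : MulAut T)).trans e

theorem act_spec {T : Subgroup G} [T.Normal] {L : Type v} [Group L] (e : ↥T ≃* L) (g : G) (x : L) :
    ((e.symm (act e g x) : ↥T) : G) = g * (e.symm x : ↥T) * g⁻¹ := by
  simp [act, MulAut.conjNormal_apply]

/-- the group part, over a subgroup `U` of `L ≃ T` which is a Sylow subgroup -/
theorem group_abs {T : Subgroup G} [T.Normal] {L : Type v} [Group L] [Finite L] (e : ↥T ≃* L) {p r : ℕ} [Fact r.Prime]
    (hp : p.Prime) (P : Sylow r L) (hpT : ¬ p ∣ T.index) (hpN : ¬ p ∣ Nat.card (normalizer ((P : Subgroup L) : Set L)))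
    (hdc : ∀ α : MulAut L, (∀ x, α x ∈ (P : Subgroup L) ↔ x ∈ (P : Subgroup L)) → ∀ t : L,
      ∃ b ∈ normalizer ((P : Subgroup L) : Set L), ∃ b' ∈ normalizer ((P : Subgroup L) : Set L), α t = b * t * b') :
    ∃ H : Subgroup G, T ⊔ H = ⊤ ∧ ¬ p ∣ Nat.card H ∧
      ∀ h ∈ H, ∀ t ∈ T, ∃ b ∈ H ⊓ T, ∃ b' ∈ H ⊓ T, h * t * h⁻¹ = b * t * b' := by
  -- the embedding of `L`
  let ψ : L →* G := T.subtype.comp e.symm.toMonoidHom
  have hψ : ∀ x, ψ x = (e.symm x : ↥T) := fun _ => rfl
  have hinj : Function.Injective ψ := T.subtype_injective.comp e.symm.injective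
  have hmem : ∀ x, ψ x ∈ T := fun x => (e.symm x).2
  have hsurj : ∀ t ∈ T, ∃ x, ψ x = t := fun t ht => ⟨e ⟨t, ht⟩, by rw [hψ, e.symm_apply_apply]⟩
  have hact : ∀ g x, ψ (act e g x) = g * ψ x * g⁻¹ := act_spec e
  set U : Subgroup G := (P : Subgroup L).map ψ with hU
  have hUmem : ∀ x, ψ x ∈ U ↔ x ∈ (P : Subgroup L) := by
    intro x
    rw [hU, Subgroup.mem_map]
    exact ⟨fun ⟨y, hy, h⟩ => by rwa [← hinj h], fun h => ⟨x, h, rfl⟩⟩
  have hUT : U ≤ T := by
    rintro _ ⟨y, -, rfl⟩
    exact hmem y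
  -- membership in the normalizer
  have hN : ∀ g, g ∈ normalizer (U : Set G) ↔ ∀ x, act e g x ∈ (P : Subgroup L) ↔ x ∈ (P : Subgroup L) := by
    intro g
    rw [mem_normalizer_iff]
    constructor
    · intro h x
      have h1 := h (ψ x)
      rw [← hact] at h1
      rw [← hUmem, ← hUmem, h1]
    · intro h y
      constructor
      · intro hy
        obtain ⟨x, hx, rfl⟩ := hy
        rw [← hact]
        exact (hUmem _).2 ((h x).2 hx)
      · intro hy
        have hyT : y ∈ T := by
          have h1 := (inferInstance : T.Normal).conj_mem _ (hUT hy) g⁻¹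
          have h2 : g⁻¹ * (g * y * g⁻¹) * g⁻¹⁻¹ = y := by group
          rwa [h2] at h1
        obtain ⟨x, rfl⟩ := hsurj y hyT
        rw [← hact, hUmem] at hy
        exact (hUmem _).2 ((h x).1 hy)
  have hNL : ∀ x : L, ψ x ∈ normalizer (U : Set G) ↔ x ∈ normalizer ((P : Subgroup L) : Set L) := by
    intro x
    have h1 : ∀ y, act e (ψ x) y = x * y * x⁻¹ := fun y => hinj (by rw [hact, map_mul, map_mul, map_inv])
    rw [hN, mem_normalizer_iff]
    simp only [h1]
    exact ⟨fun h y => (h y).symm, fun h y => (h y).symm⟩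
  -- the Frattini argument
  have htop : T ⊔ normalizer (U : Set G) = ⊤ := by
    rw [eq_top_iff]
    intro g _
    obtain ⟨t, ht⟩ := MulAction.exists_smul_eq L (act e g • P) P
    have h1 : ψ t * g ∈ normalizer (U : Set G) := by
      rw [hN]
      intro x
      have h2 : act e (ψ t * g) x = t * act e g x * t⁻¹ := hinj (by
        rw [hact, map_mul, map_mul, map_inv, hact]; group)
      rw [h2]
      have h3 : (MulAut.conj t * act e g) • (P : Subgroup L) = P := by
        have h4 : ((t • (act e g • P) : Sylow r L) : Subgroup L) = MulAut.conj t • (act e g • (P : Subgroup L)) := rfl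
        rw [ht] at h4
        rw [mul_smul]
        exact h4.symm
      have h5 : (MulAut.conj t * act e g) • x ∈ (MulAut.conj t * act e g) • (P : Subgroup L) ↔ x ∈ (P : Subgroup L) :=
        Subgroup.smul_mem_pointwise_smul_iff
      rw [h3] at h5
      exact h5
    have h2 : g = (ψ t)⁻¹ * (ψ t * g) := by group
    rw [h2]
    exact mul_mem (mem_sup_left (inv_mem (hmem t))) (mem_sup_right h1)
  refine ⟨normalizer (U : Set G), htop, ?_, ?_⟩
  · -- the order
    intro hd
    have h1 : Nat.card ↥(T.subgroupOf (normalizer (U : Set G))) * (T.subgroupOf (normalizer (U : Set G))).index =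
        Nat.card (normalizer (U : Set G)) := Subgroup.card_mul_index _
    rw [← h1] at hd
    rcases (hp.dvd_mul).1 hd with h2 | h2
    · apply hpN
      refine h2.trans (dvd_of_eq ?_)
      refine Nat.card_congr ⟨fun x => ⟨e ⟨x.1.1, x.2⟩, ?_⟩, fun y => ⟨⟨ψ y.1, (hNL _).2 y.2⟩, hmem _⟩, ?_, ?_⟩
      · rw [← hNL, hψ, e.symm_apply_apply]
        exact x.1.2
      · intro x
        apply Subtype.ext
        apply Subtype.ext
        change ψ (e ⟨x.1.1, x.2⟩) = _
        rw [hψ, e.symm_apply_apply]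
      · intro y
        apply Subtype.ext
        exact e.apply_symm_apply y.1
    · apply hpT
      have h3 : (T.subgroupOf (normalizer (U : Set G))).index = T.index := by
        rw [← Subgroup.relIndex]
        rw [← Subgroup.relIndex_sup_right, sup_comm, htop, Subgroup.relIndex_top_right]
      rwa [h3] at h2
  · intro h hh t ht
    obtain ⟨x, rfl⟩ := hsurj t ht
    obtain ⟨b, hb, b', hb', hx⟩ := hdc (act e h) ((hN h).1 hh) x
    refine ⟨ψ b, ⟨(hNL b).2 hb, hmem b⟩, ψ b', ⟨(hNL b').2 hb', hmem b'⟩, ?_⟩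
    rw [← hact, hx, map_mul, map_mul]

end Abs

section Field

theorem exists_ne_one {F : Type*} [Field F] [Fintype F] {m : ℕ} (hm : 1 ≤ m) (hK : Fintype.card F = 2 ^ (2 * m + 1)) :
    ∃ c : Fˣ, c ≠ 1 := by
  have h1 : 1 < Nat.card Fˣ := by
    rw [Nat.card_units, Nat.card_eq_fintype_card, hK]
    have : 2 ^ 3 ≤ 2 ^ (2 * m + 1) := Nat.pow_le_pow_right (by norm_num) (by omega)
    omega
  have h2 : Nontrivial Fˣ := Finite.one_lt_card_iff_nontrivial.1 h1
  exact exists_ne 1

end Field

/-- **the group part** -/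
theorem group_part {G : Type u} [Group G] [Finite G] (T : Subgroup G) [T.Normal] {F : Type} [Field F] [Fintype F] {m : ℕ}
    (hm : 1 ≤ m) (hF : Fintype.card F = 2 ^ (2 * m + 1)) (iso : ↥T ≃* ↥(Lie.twistedF4 F (2 ^ m)))
    (hq : 11 ∣ Fintype.card F + 1) (h11 : ¬ 11 ∣ T.index) :
    ∃ H : Subgroup G, T ⊔ H = ⊤ ∧ ¬ 11 ∣ Nat.card H ∧
      ∀ h ∈ H, ∀ t ∈ T, ∃ b ∈ H ⊓ T, ∃ b' ∈ H ⊓ T, h * t * h⁻¹ = b * t * b' := by
  obtain ⟨φ, hφ⟩ := Cfsg.Agent.ChevalleyStructure.TwF4.TwistedFix.exists_rln hF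
  have := Cfsg.Agent.ChevalleyStructure.TwF4.Twisted.charP_two hF
  have hfin : Finite ↥(twistedF4 F (2 ^ m)) := inferInstance
  have hc := exists_ne_one hm hF
  have h2 : Fact (Nat.Prime 2) := ⟨Nat.prime_two⟩
  let S := Inst.full hF hφ
  obtain ⟨P, hP⟩ := SylU.exists_sylow S hc rfl
  refine group_abs iso (p := 11) (r := 2) (by norm_num) P h11 ?_ ?_
  · rw [hP]
    refine not_dvd_normalizer S hc rfl (by norm_num) (by norm_num) fun h => ?_
    rw [Nat.card_eq_fintype_card] at h
    have h3 : 1 < Fintype.card F := Fintype.one_lt_card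
    have h4 : 11 ∣ (Fintype.card F + 1) - (Fintype.card F - 1) := Nat.dvd_sub hq h
    have h5 : (Fintype.card F + 1) - (Fintype.card F - 1) = 2 := by omega
    rw [h5] at h4
    norm_num at h4
  · rw [hP]
    exact fun α hα t => aut_dcoset S hc rfl α hα t

end Cfsg.Agent.H461.D
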